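import Mathlib
import Groth.Agent.S0389
import Groth.Agent.H51.RA_B1

/-!
# (C2) fibrewise torsion-freeness over a polynomial ring near the generic point (helper57)
-/

set_option autoImplicit false
set_option linter.style.haveILetI false

universe u

open scoped TensorProduct

namespace Groth.Agent.H57.RelAssSU.C2

section Basis

variable {R R' F ι : Type*} [CommRing R] [CommRing R'] [Algebra R R'] [AddCommGroup F]
  [Module R F] [Module R' F] [IsScalarTower R R' F]

theorem smul_mem_smul_top_of_mem_map (P : Ideal R) (r : R') (hr : r ∈ P.map (algebraMap R R'))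
    (y : F) : r • y ∈ P • (⊤ : Submodule R F) := by
  revert y
  change r ∈ Ideal.span _ at hr
  refine Submodule.span_induction ?_ ?_ ?_ ?_ hr
  · rintro _ ⟨π, hπ, rfl⟩ y
    rw [algebraMap_smul]
    exact Submodule.smul_mem_smul hπ trivial
  · intro y
    rw [zero_smul]
    exact zero_mem _
  · intro r₁ r₂ _ _ h₁ h₂ y
    rw [add_smul]
    exact add_mem (h₁ y) (h₂ y)
  · intro r' r₁ _ h₁ y
    rw [smul_eq_mul, mul_comm, mul_smul]
    exact h₁ (r' • y)

theorem mem_smul_top_of_forall_repr_mem (b : Module.Basis ι R' F) (P : Ideal R) (x : F)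
    (h : ∀ i, b.repr x i ∈ P.map (algebraMap R R')) : x ∈ P • (⊤ : Submodule R F) := by
  rw [← b.linearCombination_repr x, Finsupp.linearCombination_apply, Finsupp.sum]
  refine Submodule.sum_mem _ fun i _ => ?_
  exact smul_mem_smul_top_of_mem_map P _ (h i) _

theorem repr_mem_of_mem_smul_top (b : Module.Basis ι R' F) (P : Ideal R) (x : F)
    (hx : x ∈ P • (⊤ : Submodule R F)) (i : ι) : b.repr x i ∈ P.map (algebraMap R R') := by
  refine Submodule.smul_induction_on hx ?_ ?_
  · intro π hπ y _
    rw [← algebraMap_smul R' π y, map_smul, Finsupp.smul_apply, smul_eq_mul]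
    exact Ideal.mul_mem_right _ _ (Ideal.mem_map_of_mem _ hπ)
  · intro y₁ y₂ h₁ h₂
    rw [map_add, Finsupp.add_apply]
    exact add_mem h₁ h₂

end Basis

variable {A B M : Type u} [CommRing A] [IsDomain A] [CommRing B] [Algebra A B]
  [Algebra.FiniteType A B] [AddCommGroup M] [Module B M] [Module A M] [IsScalarTower A B M]
  [Module.Finite B M]

set_option maxHeartbeats 800000 in
/-- (C2) if every nonzero polynomial acts injectively on `M`, then near the generic point every
polynomial which is nonzero modulo `p` acts injectively on the fibre `M / p M`. -/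
theorem fibre_torsionFree {d : ℕ} (φ : MvPolynomial (Fin d) A →ₐ[A] B)
    (hreg : ∀ c : MvPolynomial (Fin d) A, c ≠ 0 → ∀ n : M, φ c • n = 0 → n = 0) :
    ∃ a : A, a ≠ 0 ∧ ∀ p : Ideal A, p.IsPrime → a ∉ p → ∀ c : MvPolynomial (Fin d) A,
      c ∉ p.map (MvPolynomial.C : A →+* MvPolynomial (Fin d) A) → ∀ n : M,
      φ c • n ∈ p • (⊤ : Submodule A M) → ∃ k : ℕ, a ^ k • n ∈ p • (⊤ : Submodule A M) := by
  classical
  letI algCB : Algebra (MvPolynomial (Fin d) A) B := φ.toRingHom.toAlgebra
  haveI : IsScalarTower A (MvPolynomial (Fin d) A) B :=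
    IsScalarTower.of_algebraMap_eq (fun a => (φ.commutes a).symm)
  haveI : Algebra.FiniteType (MvPolynomial (Fin d) A) B :=
    Algebra.FiniteType.of_restrictScalars_finiteType A (MvPolynomial (Fin d) A) B
  letI : Module (MvPolynomial (Fin d) A) M :=
    Module.compHom M (algebraMap (MvPolynomial (Fin d) A) B)
  haveI : IsScalarTower (MvPolynomial (Fin d) A) B M :=
    IsScalarTower.of_algebraMap_smul fun r m => rfl
  have hsmul : ∀ (c : MvPolynomial (Fin d) A) (m : M), c • m = φ c • m := fun c m => rfl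
  haveI : IsScalarTower A (MvPolynomial (Fin d) A) M := ⟨fun a c m => by
    rw [hsmul, hsmul, map_smul, smul_assoc]⟩
  obtain ⟨c₀, hc₀, hfree, -, -, -⟩ :=
    Groth.Agent.S0389.result (R := MvPolynomial (Fin d) A) (S := B) (M := M)
  obtain ⟨a', ha', hcore⟩ := Groth.Agent.H51.RA_B1.core_claim (A := A) (B := B) (M := M) (φ c₀)
    (fun m hm => ⟨1, one_ne_zero, by rw [hreg c₀ hc₀ m hm, smul_zero]⟩)
  obtain ⟨mon, hmon⟩ := MvPolynomial.ne_zero_iff.mp hc₀
  refine ⟨a' * MvPolynomial.coeff mon c₀, mul_ne_zero ha' hmon, ?_⟩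
  intro p hp hap c hc n hn
  have ha'p : a' ∉ p := fun h => hap (p.mul_mem_right _ h)
  have hαp : MvPolynomial.coeff mon c₀ ∉ p := fun h => hap (p.mul_mem_left _ h)
  set P : Ideal (MvPolynomial (Fin d) A) :=
    p.map (MvPolynomial.C : A →+* MvPolynomial (Fin d) A) with hP
  have hc₀P : c₀ ∉ P := fun h => hαp (MvPolynomial.mem_map_C_iff.mp h mon)
  have hPprime : P.IsPrime := by
    haveI : IsDomain (A ⧸ p) := Ideal.Quotient.isDomain p
    have e := MvPolynomial.quotientEquivQuotientMvPolynomial (σ := Fin d) p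
    have hd : IsDomain (MvPolynomial (Fin d) A ⧸ P) :=
      MulEquiv.isDomain (MvPolynomial (Fin d) (A ⧸ p)) e.symm.toMulEquiv
    exact (Ideal.Quotient.isDomain_iff_prime P).mp hd
  have hdisj : Disjoint (Submonoid.powers c₀ : Set (MvPolynomial (Fin d) A)) (P : Set _) := by
    rw [Set.disjoint_left]
    rintro _ ⟨k, rfl⟩ hk
    exact hc₀P (hPprime.mem_of_pow_mem k hk)
  have hP₀prime : (P.map (algebraMap (MvPolynomial (Fin d) A) (Localization.Away c₀))).IsPrime :=
    IsLocalization.isPrime_of_isPrime_disjoint (Submonoid.powers c₀) (Localization.Away c₀) P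
      hPprime hdisj
  have hcomap : (P.map (algebraMap (MvPolynomial (Fin d) A) (Localization.Away c₀))).comap
      (algebraMap (MvPolynomial (Fin d) A) (Localization.Away c₀)) = P :=
    IsLocalization.under_map_of_isPrime_disjoint (Submonoid.powers c₀) (Localization.Away c₀)
      hPprime hdisj
  have hcP₀ : algebraMap (MvPolynomial (Fin d) A) (Localization.Away c₀) c ∉
      P.map (algebraMap (MvPolynomial (Fin d) A) (Localization.Away c₀)) := fun h =>
    hc (by rw [← hcomap]; exact h)
  -- `p M = P M`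
  have hpM : ∀ y : M, y ∈ p • (⊤ : Submodule A M) →
      y ∈ P • (⊤ : Submodule (MvPolynomial (Fin d) A) M) := by
    intro y hy
    refine Submodule.smul_induction_on hy ?_ ?_
    · intro α hα m _
      rw [← algebraMap_smul (MvPolynomial (Fin d) A) α m]
      exact Submodule.smul_mem_smul (Ideal.mem_map_of_mem _ hα) trivial
    · intro y₁ y₂ h₁ h₂
      exact add_mem h₁ h₂
  have hPM : ∀ y : M, y ∈ P • (⊤ : Submodule (MvPolynomial (Fin d) A) M) →
      y ∈ p • (⊤ : Submodule A M) := fun y hy =>
    (Groth.Agent.H51.RA_B1.mem_map_smul_top_iff (A := A) (B := MvPolynomial (Fin d) A) (M := M)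
      p y).mp hy
  -- the element `x = 1 ⊗ n`
  let b := Module.Free.chooseBasis (Localization.Away c₀)
    (Localization.Away c₀ ⊗[MvPolynomial (Fin d) A] M)
  have hmap : ∀ y : M, y ∈ P • (⊤ : Submodule (MvPolynomial (Fin d) A) M) →
      (1 : Localization.Away c₀) ⊗ₜ[MvPolynomial (Fin d) A] y ∈
        P • (⊤ : Submodule (MvPolynomial (Fin d) A)
          (Localization.Away c₀ ⊗[MvPolynomial (Fin d) A] M)) := by
    intro y hy
    refine Submodule.smul_induction_on hy ?_ ?_
    · intro π hπ m _
      rw [TensorProduct.tmul_smul]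
      exact Submodule.smul_mem_smul hπ trivial
    · intro y₁ y₂ h₁ h₂
      rw [TensorProduct.tmul_add]
      exact add_mem h₁ h₂
  have h1 : c • ((1 : Localization.Away c₀) ⊗ₜ[MvPolynomial (Fin d) A] n) ∈
      P • (⊤ : Submodule (MvPolynomial (Fin d) A)
        (Localization.Away c₀ ⊗[MvPolynomial (Fin d) A] M)) := by
    rw [← TensorProduct.tmul_smul]
    exact hmap _ (hpM _ hn)
  have h2 : ∀ i, algebraMap (MvPolynomial (Fin d) A) (Localization.Away c₀) c *
      b.repr ((1 : Localization.Away c₀) ⊗ₜ[MvPolynomial (Fin d) A] n) i ∈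
        P.map (algebraMap (MvPolynomial (Fin d) A) (Localization.Away c₀)) := by
    intro i
    have := repr_mem_of_mem_smul_top b P _ h1 i
    rwa [← algebraMap_smul (Localization.Away c₀) c, map_smul, Finsupp.smul_apply,
      smul_eq_mul] at this
  have h3 : ∀ i, b.repr ((1 : Localization.Away c₀) ⊗ₜ[MvPolynomial (Fin d) A] n) i ∈
      P.map (algebraMap (MvPolynomial (Fin d) A) (Localization.Away c₀)) := fun i =>
    (hP₀prime.mem_or_mem (h2 i)).resolve_left hcP₀
  have h4 : (1 : Localization.Away c₀) ⊗ₜ[MvPolynomial (Fin d) A] n ∈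
      P • (⊤ : Submodule (MvPolynomial (Fin d) A)
        (Localization.Away c₀ ⊗[MvPolynomial (Fin d) A] M)) :=
    mem_smul_top_of_forall_repr_mem b P _ h3
  haveI : IsLocalizedModule (Submonoid.powers c₀)
      (TensorProduct.mk (MvPolynomial (Fin d) A) (Localization.Away c₀) M 1) :=
    (isLocalizedModule_iff_isBaseChange (Submonoid.powers c₀) (Localization.Away c₀) _).mpr
      (TensorProduct.isBaseChange (MvPolynomial (Fin d) A) M (Localization.Away c₀))
  obtain ⟨s, ⟨j, hj⟩, hs⟩ := Groth.Agent.H51.RA_B1.exists_smul_mem_of_map_mem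
    (Submonoid.powers c₀)
    (TensorProduct.mk (MvPolynomial (Fin d) A) (Localization.Away c₀) M 1) P n h4
  have hj' : c₀ ^ j = s := hj
  have h5 : (φ c₀) ^ j • n ∈ p • (⊤ : Submodule A M) := by
    have := hPM _ hs
    rwa [← hj', hsmul, map_pow] at this
  -- iterate the core claim
  have hiter : ∀ (j : ℕ) (y : M), (φ c₀) ^ j • y ∈ p • (⊤ : Submodule A M) →
      ∃ k : ℕ, a' ^ k • y ∈ p • (⊤ : Submodule A M) := by
    intro j
    induction j with
    | zero =>
      intro y hy
      exact ⟨0, by simpa using hy⟩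
    | succ j ih =>
      intro y hy
      rw [pow_succ', mul_smul] at hy
      obtain ⟨m, hm⟩ := hcore p _ hy
      rw [smul_comm] at hm
      obtain ⟨k, hk⟩ := ih _ hm
      exact ⟨k + m, by rw [pow_add, mul_smul]; exact hk⟩
  obtain ⟨k, hk⟩ := hiter j n h5
  refine ⟨k, ?_⟩
  rw [mul_pow, mul_comm, mul_smul]
  exact Submodule.smul_mem _ _ hk

end Groth.Agent.H57.RelAssSU.C2
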