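import Mathlib
import Groth.Agent.S0389
import Groth.Agent.H57.RelAssGen.Defs
import Groth.Agent.H57.RelAssSU.C2
import Groth.Agent.H83.RA_B2a
import Groth.Agent.H98.SU_P1
import Groth.Agent.H66.SU_AV
import Groth.Agent.H66.SU_C1
import Groth.Agent.H72.SU_FIN
import Groth.Agent.H72.SU_COPcore
import Groth.Agent.H26.SU_SUcore

/-!
# (MAIN) the three algebra properties with one `a` (helper57, S5872 / S5873)

Assembly of the squad pieces: (P1) helper98, (C1)+(AV) helper66, (C2) helper29 / helper57,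
(C3)+(FIN)+(COP) helper72, (SU) helper26, (B1) helper51, (B2a) helper83.
-/

set_option autoImplicit false
set_option linter.style.haveILetI false

universe u

open Groth.Agent.H57.RelAssGen

namespace Groth.Agent.H57.RelAssSU

section Domain

variable {A B M : Type u} [CommRing A] [IsDomain A] [CommRing B] [Algebra A B]
  [Algebra.FiniteType A B] [AddCommGroup M] [Module B M] [Module A M] [IsScalarTower A B M]
  [Module.Finite B M] [IsNoetherianRing A]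

omit [IsNoetherianRing A] in
/-- (COP) the coprimary case. -/
theorem coprimary_socAt (q₀ : Ideal B) [q₀.IsPrime] (hq₀ : q₀.comap (algebraMap A B) = ⊥)
    (hnil : ∀ b ∈ q₀, ∃ k : ℕ, ∀ n : M, b ^ k • n = 0)
    (hreg : ∀ b : B, b ∉ q₀ → ∀ n : M, b • n = 0 → n = 0) :
    ∃ a : A, a ≠ 0 ∧ ∀ q : Ideal B, q.IsPrime → algebraMap A B a ∉ q →
      SocAt (fibI A q) q M → q₀ ≤ q ∧
        ∀ q' : Ideal B, q'.IsPrime → q₀ ≤ q' → q' ≤ q →
          q'.comap (algebraMap A B) = q.comap (algebraMap A B) → q' = q :=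
  Groth.Agent.H72.SU_COP.coprimary_socAt_core
    (fun 𝔞 h𝔞 => Groth.Agent.H66.SU_C1.exists_noether_normalization 𝔞 h𝔞)
    (fun φ hreg' => Groth.Agent.H57.RelAssSU.C2.fibre_torsionFree φ hreg') q₀ hq₀ hnil hreg

/-- (SU) near the generic point every associated point of a fibre is a fibre-generic point of the
closure of an associated point of the generic fibre. -/
theorem exists_generization_of_socAt :
    ∃ a : A, a ≠ 0 ∧ ∀ q : Ideal B, q.IsPrime → algebraMap A B a ∉ q → SocAt (fibI A q) q M →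
      ∃ q₀ : Ideal B, q₀.IsPrime ∧ q₀.comap (algebraMap A B) = ⊥ ∧ SocAt (fibI A q₀) q₀ M ∧
        q₀ ≤ q ∧ ∀ q' : Ideal B, q'.IsPrime → q₀ ≤ q' → q' ≤ q →
          q'.comap (algebraMap A B) = q.comap (algebraMap A B) → q' = q :=
  Groth.Agent.H26.SU_SU.exists_generization_of_socAt_of
    (fun t ht => Groth.Agent.H98.SU_P1.exists_socAt_quotient_of_inf_eq_bot t ht)
    (fun Q q₀ _ hq₀ hnil hreg => coprimary_socAt (A := A) (M := M ⧸ Q) q₀ hq₀ hnil hreg)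

/-- (MAIN) the three properties at once, with one `a`. -/
theorem alg_main :
    ∃ a : A, a ≠ 0 ∧
      (∀ q₀ q : Ideal B, q₀.IsPrime → q.IsPrime → q₀.comap (algebraMap A B) = ⊥ →
        SocAt (fibI A q₀) q₀ M → q₀ ≤ q → algebraMap A B a ∉ q →
        (∀ q' : Ideal B, q'.IsPrime → q₀ ≤ q' → q' ≤ q →
          q'.comap (algebraMap A B) = q.comap (algebraMap A B) → q' = q) →
        SocAt (fibI A q) q M) ∧
      (∀ q : Ideal B, q.IsPrime → algebraMap A B a ∉ q → SocAt (fibI A q) q M →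
        ∃ q₀ : Ideal B, q₀.IsPrime ∧ q₀.comap (algebraMap A B) = ⊥ ∧ SocAt (fibI A q₀) q₀ M ∧
          q₀ ≤ q ∧ ∀ q' : Ideal B, q'.IsPrime → q₀ ≤ q' → q' ≤ q →
            q'.comap (algebraMap A B) = q.comap (algebraMap A B) → q' = q) ∧
      (∀ q₀ q₁ q : Ideal B, q₀.IsPrime → q₁.IsPrime → q.IsPrime →
        q₀.comap (algebraMap A B) = ⊥ → SocAt (fibI A q₀) q₀ M →
        q₁.comap (algebraMap A B) = ⊥ → SocAt (fibI A q₁) q₁ M → ¬ q₁ ≤ q₀ →
        q₀ ≤ q → algebraMap A B a ∉ q →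
        (∀ q' : Ideal B, q'.IsPrime → q₀ ≤ q' → q' ≤ q →
          q'.comap (algebraMap A B) = q.comap (algebraMap A B) → q' = q) →
        ¬ q₁ ≤ q) := by
  classical
  haveI : IsNoetherianRing B := Algebra.FiniteType.isNoetherianRing A B
  let R₀ : Set (Ideal B) :=
    {q₀ | q₀.IsPrime ∧ q₀.comap (algebraMap A B) = ⊥ ∧ SocAt (fibI A q₀) q₀ M}
  have hR₀fin : R₀.Finite := by
    refine (associatedPrimes.finite B M).subset ?_
    rintro q₀ ⟨hp, hb, hs⟩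
    haveI := hp
    apply Groth.Agent.H72.SU_FIN.mem_associatedPrimes_of_socAt_bot q₀
    have h0 : fibI A q₀ = ⊥ := by unfold fibI; rw [hb, Ideal.map_bot]
    rwa [h0] at hs
  have hdvd : ∀ {x y : A} (q : Ideal B), x ∣ y → algebraMap A B y ∉ q → algebraMap A B x ∉ q := by
    rintro x y q ⟨c, rfl⟩ h hx
    exact h (by rw [map_mul]; exact q.mul_mem_right _ hx)
  -- clause 1
  have hB2a : ∀ q₀ : Ideal B, ∃ a : A, a ≠ 0 ∧ (q₀ ∈ R₀ → ∀ q : Ideal B, q.IsPrime → q₀ ≤ q →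
      algebraMap A B a ∉ q →
      (∀ q' : Ideal B, q'.IsPrime → q₀ ≤ q' → q' ≤ q →
        q'.comap (algebraMap A B) = q.comap (algebraMap A B) → q' = q) →
      SocAt (fibI A q) q M) := by
    intro q₀
    by_cases h : q₀ ∈ R₀
    · obtain ⟨hp, hb, hs⟩ := h
      haveI := hp
      obtain ⟨a, ha, H⟩ := Groth.Agent.H83.RA.core_generic_min q₀ hb hs
      exact ⟨a, ha, fun _ => H⟩
    · exact ⟨1, one_ne_zero, fun h' => absurd h' h⟩
  choose a1 ha1 H1 using hB2a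
  -- clause 3
  have hAV : ∀ q₀ q₁ : Ideal B, ∃ a : A, a ≠ 0 ∧ (q₀ ∈ R₀ → ¬ q₁ ≤ q₀ → ∀ q : Ideal B,
      q.IsPrime → algebraMap A B a ∉ q → q₀ ≤ q →
      (∀ q' : Ideal B, q'.IsPrime → q₀ ≤ q' → q' ≤ q →
        q'.comap (algebraMap A B) = q.comap (algebraMap A B) → q' = q) →
      ¬ q₁ ≤ q) := by
    intro q₀ q₁
    by_cases h : q₀ ∈ R₀ ∧ ¬ q₁ ≤ q₀
    · obtain ⟨⟨hp, hb, hs⟩, hn⟩ := h
      haveI := hp
      obtain ⟨a, ha, H⟩ := Groth.Agent.H66.SU_AV.avoid_of_fibMin (A := A) q₀ hb q₁ hn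
      exact ⟨a, ha, fun _ _ => H⟩
    · exact ⟨1, one_ne_zero, fun h1 h2 => absurd ⟨h1, h2⟩ h⟩
  choose a3 ha3 H3 using hAV
  obtain ⟨a2, ha2, H2⟩ := exists_generization_of_socAt (A := A) (B := B) (M := M)
  set T := hR₀fin.toFinset with hT
  set α1 : A := ∏ q₀ ∈ T, a1 q₀ with hα1
  set α3 : A := ∏ q₀ ∈ T, ∏ q₁ ∈ T, a3 q₀ q₁ with hα3
  have hα1ne : α1 ≠ 0 := Finset.prod_ne_zero_iff.mpr fun q₀ _ => ha1 q₀
  have hα3ne : α3 ≠ 0 := Finset.prod_ne_zero_iff.mpr fun q₀ _ =>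
    Finset.prod_ne_zero_iff.mpr fun q₁ _ => ha3 q₀ q₁
  have hmemT : ∀ q₀ : Ideal B, q₀.IsPrime → q₀.comap (algebraMap A B) = ⊥ →
      SocAt (fibI A q₀) q₀ M → q₀ ∈ T := fun q₀ hp hb hs =>
    hR₀fin.mem_toFinset.mpr ⟨hp, hb, hs⟩
  refine ⟨a2 * α1 * α3, mul_ne_zero (mul_ne_zero ha2 hα1ne) hα3ne, ?_, ?_, ?_⟩
  · intro q₀ q hq₀ hq hb hs hle ha hmin
    have hq₀T := hmemT q₀ hq₀ hb hs
    have h1 : a1 q₀ ∣ a2 * α1 * α3 :=
      (Finset.dvd_prod_of_mem a1 hq₀T).trans ((dvd_mul_left α1 a2).trans (dvd_mul_right _ α3))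
    exact H1 q₀ ⟨hq₀, hb, hs⟩ q hq hle (hdvd q h1 ha) hmin
  · intro q hq ha hs
    have h1 : a2 ∣ a2 * α1 * α3 := (dvd_mul_right a2 α1).trans (dvd_mul_right _ α3)
    exact H2 q hq (hdvd q h1 ha) hs
  · intro q₀ q₁ q hq₀ hq₁ hq hb₀ hs₀ hb₁ hs₁ hn hle ha hmin
    have hq₀T := hmemT q₀ hq₀ hb₀ hs₀
    have hq₁T := hmemT q₁ hq₁ hb₁ hs₁
    have h1 : a3 q₀ q₁ ∣ a2 * α1 * α3 :=
      ((Finset.dvd_prod_of_mem (a3 q₀) hq₁T).trans
        (Finset.dvd_prod_of_mem (fun q₀ => ∏ q₁ ∈ T, a3 q₀ q₁) hq₀T)).trans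
        (dvd_mul_left α3 _)
    exact H3 q₀ q₁ ⟨hq₀, hb₀, hs₀⟩ hn q hq (hdvd q h1 ha) hle hmin

end Domain

end Groth.Agent.H57.RelAssSU
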