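import Mathlib
import Groth.Agent.H57.RelAssGen.RowAvoid
import Groth.Agent.H57.RelAssSU.AlgMain

/-!
# Chart-level form of the main algebra theorem (helper57, S5872 / S5873)
-/

set_option autoImplicit false
set_option linter.style.haveILetI false

universe u

open AlgebraicGeometry CategoryTheory Limits TopologicalSpace IsLocalRing
open Groth.Agent.H57.RelAssGen

namespace Groth.Agent.H57.RelAssSU

variable {X Y : Scheme.{u}}

theorem chart_main (f : X ⟶ Y) [LocallyOfFiniteType f] (F : X.Modules) (hF : Coh.IsCoh F)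
    {V₀ : Y.Opens} (hV₀ : IsAffineOpen V₀) [IsDomain Γ(Y, V₀)] [IsNoetherianRing Γ(Y, V₀)]
    (η : Y) (hηV₀ : η ∈ V₀) (hη : (hV₀.primeIdealOf ⟨η, hηV₀⟩).asIdeal = ⊥)
    {W : X.Opens} (hW : IsAffineOpen W) (e : W ≤ f ⁻¹ᵁ V₀) :
    ∃ a : Γ(Y, V₀), a ≠ 0 ∧
      (∀ x₀ x : X, x ∈ W → x₀ ∈ MoreMor.relAss f F → f x₀ = η → x₀ ⤳ x →
        f x ∈ Y.basicOpen a →
        (∀ x' : X, x₀ ⤳ x' → x' ⤳ x → f x' = f x → x' = x) → x ∈ MoreMor.relAss f F) ∧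
      (∀ x : X, x ∈ W → x ∈ MoreMor.relAss f F → f x ∈ Y.basicOpen a →
        ∃ x₀ : X, x₀ ∈ MoreMor.relAss f F ∧ f x₀ = η ∧ x₀ ⤳ x ∧
          ∀ x' : X, x₀ ⤳ x' → x' ⤳ x → f x' = f x → x' = x) ∧
      (∀ x₀ x₁ x : X, x ∈ W → x₀ ∈ MoreMor.relAss f F → f x₀ = η →
        x₁ ∈ MoreMor.relAss f F → f x₁ = η → ¬ x₁ ⤳ x₀ → x₀ ⤳ x → f x ∈ Y.basicOpen a →
        (∀ x' : X, x₀ ⤳ x' → x' ⤳ x → f x' = f x → x' = x) → ¬ x₁ ⤳ x) := by
  haveI : F.IsQuasicoherent := hF.1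
  letI : Algebra Γ(Y, V₀) Γ(X, W) := (f.appLE V₀ W e).hom.toAlgebra
  haveI : Algebra.FiniteType Γ(Y, V₀) Γ(X, W) := f.finiteType_appLE hV₀ hW e
  letI : Module Γ(Y, V₀) Γ(F, W) := Module.compHom _ (f.appLE V₀ W e).hom
  haveI : IsScalarTower Γ(Y, V₀) Γ(X, W) Γ(F, W) :=
    IsScalarTower.of_algebraMap_smul fun r m => rfl
  haveI : Module.Finite Γ(X, W) Γ(F, W) := Groth.Agent.H8.finite_sections_of_isCoh F hF hW
  -- notation: prime of a point of W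
  have hcomap : ∀ (x : X) (hxW : x ∈ W),
      (hW.primeIdealOf ⟨x, hxW⟩).asIdeal.comap (algebraMap Γ(Y, V₀) Γ(X, W)) =
        (hV₀.primeIdealOf ⟨f x, e hxW⟩).asIdeal :=
    fun x hxW => comap_primeIdealOf_asIdeal f hV₀ hW e x hxW
  have hbot : ∀ (x : X) (hxW : x ∈ W), f x = η →
      (hW.primeIdealOf ⟨x, hxW⟩).asIdeal.comap (algebraMap Γ(Y, V₀) Γ(X, W)) = ⊥ := by
    intro x hxW hfx
    rw [hcomap x hxW, ← hη]
    congr 2
    exact Subtype.ext hfx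
  have hofbot : ∀ (x : X) (hxW : x ∈ W),
      (hW.primeIdealOf ⟨x, hxW⟩).asIdeal.comap (algebraMap Γ(Y, V₀) Γ(X, W)) = ⊥ → f x = η := by
    intro x hxW hb
    apply primeIdealOf_injective hV₀ (e hxW) hηV₀
    apply PrimeSpectrum.ext
    rw [← hcomap x hxW, hb, hη]
  have hsameFib : ∀ (x x' : X) (hxW : x ∈ W) (hx'W : x' ∈ W),
      ((hW.primeIdealOf ⟨x', hx'W⟩).asIdeal.comap (algebraMap Γ(Y, V₀) Γ(X, W)) =
        (hW.primeIdealOf ⟨x, hxW⟩).asIdeal.comap (algebraMap Γ(Y, V₀) Γ(X, W))) ↔ f x' = f x := by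
    intro x x' hxW hx'W
    constructor
    · intro h
      apply primeIdealOf_injective hV₀ (e hx'W) (e hxW)
      apply PrimeSpectrum.ext
      rw [← hcomap x' hx'W, ← hcomap x hxW]
      exact h
    · intro h
      rw [hcomap x' hx'W, hcomap x hxW]
      congr 2
      exact Subtype.ext h
  -- translation of fibre-minimality, points → primes
  have hmin_pts_to_primes : ∀ (x₀ x : X) (hx₀W : x₀ ∈ W) (hxW : x ∈ W),
      (∀ x' : X, x₀ ⤳ x' → x' ⤳ x → f x' = f x → x' = x) →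
      ∀ q' : Ideal Γ(X, W), q'.IsPrime → (hW.primeIdealOf ⟨x₀, hx₀W⟩).asIdeal ≤ q' →
        q' ≤ (hW.primeIdealOf ⟨x, hxW⟩).asIdeal →
        q'.comap (algebraMap Γ(Y, V₀) Γ(X, W)) =
          (hW.primeIdealOf ⟨x, hxW⟩).asIdeal.comap (algebraMap Γ(Y, V₀) Γ(X, W)) →
        q' = (hW.primeIdealOf ⟨x, hxW⟩).asIdeal := by
    intro x₀ x hx₀W hxW hmin q' hq'prime hq₀q' hq'q hc
    obtain ⟨x', hx'W, hx'q⟩ := exists_point_of_prime hW ⟨q', hq'prime⟩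
    have hqe : q' = (hW.primeIdealOf ⟨x', hx'W⟩).asIdeal := by rw [hx'q]
    subst hqe
    have hfx' : f x' = f x := (hsameFib x x' hxW hx'W).mp hc
    have hxx : x' = x := hmin x'
      ((primeIdealOf_le_iff_specializes hW hx'W hx₀W).mp hq₀q')
      ((primeIdealOf_le_iff_specializes hW hxW hx'W).mp hq'q) hfx'
    subst hxx
    rfl
  obtain ⟨a, ha, h1, h2, h3⟩ := alg_main (A := Γ(Y, V₀)) (B := Γ(X, W)) (M := Γ(F, W))
  refine ⟨a, ha, ?_, ?_, ?_⟩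
  · intro x₀ x hxW hx₀ hfx₀ hsp hfx hmin
    have hx₀W : x₀ ∈ W := hsp.mem_open W.isOpen hxW
    apply (mem_relAss_iff_socAt f F hV₀ hW e x hxW).mpr
    exact h1 _ _ (hW.primeIdealOf ⟨x₀, hx₀W⟩).isPrime (hW.primeIdealOf ⟨x, hxW⟩).isPrime
      (hbot x₀ hx₀W hfx₀) ((mem_relAss_iff_socAt f F hV₀ hW e x₀ hx₀W).mp hx₀)
      ((primeIdealOf_le_iff_specializes hW hxW hx₀W).mpr hsp)
      (algebraMap_notMem_of_mem_basicOpen f hW e x hxW a hfx)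
      (hmin_pts_to_primes x₀ x hx₀W hxW hmin)
  · intro x hxW hx hfx
    obtain ⟨q₀, hq₀prime, hq₀bot, hq₀soc, hq₀q, hq₀min⟩ :=
      h2 _ (hW.primeIdealOf ⟨x, hxW⟩).isPrime
        (algebraMap_notMem_of_mem_basicOpen f hW e x hxW a hfx)
        ((mem_relAss_iff_socAt f F hV₀ hW e x hxW).mp hx)
    obtain ⟨x₀, hx₀W, hx₀q⟩ := exists_point_of_prime hW ⟨q₀, hq₀prime⟩
    have hqe : q₀ = (hW.primeIdealOf ⟨x₀, hx₀W⟩).asIdeal := by rw [hx₀q]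
    subst hqe
    refine ⟨x₀, (mem_relAss_iff_socAt f F hV₀ hW e x₀ hx₀W).mpr hq₀soc, hofbot x₀ hx₀W hq₀bot,
      (primeIdealOf_le_iff_specializes hW hxW hx₀W).mp hq₀q, ?_⟩
    intro x' hsp₀ hsp hfx'
    have hx'W : x' ∈ W := hsp.mem_open W.isOpen hxW
    have := hq₀min _ (hW.primeIdealOf ⟨x', hx'W⟩).isPrime
      ((primeIdealOf_le_iff_specializes hW hx'W hx₀W).mpr hsp₀)
      ((primeIdealOf_le_iff_specializes hW hxW hx'W).mpr hsp)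
      ((hsameFib x x' hxW hx'W).mpr hfx')
    exact primeIdealOf_injective hW hx'W hxW (PrimeSpectrum.ext this)
  · intro x₀ x₁ x hxW hx₀ hfx₀ hx₁ hfx₁ hnsp hsp hfx hmin hsp₁
    have hx₀W : x₀ ∈ W := hsp.mem_open W.isOpen hxW
    have hx₁W : x₁ ∈ W := hsp₁.mem_open W.isOpen hxW
    refine h3 _ _ _ (hW.primeIdealOf ⟨x₀, hx₀W⟩).isPrime (hW.primeIdealOf ⟨x₁, hx₁W⟩).isPrime
      (hW.primeIdealOf ⟨x, hxW⟩).isPrime
      (hbot x₀ hx₀W hfx₀) ((mem_relAss_iff_socAt f F hV₀ hW e x₀ hx₀W).mp hx₀)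
      (hbot x₁ hx₁W hfx₁) ((mem_relAss_iff_socAt f F hV₀ hW e x₁ hx₁W).mp hx₁)
      (fun hle => hnsp ((primeIdealOf_le_iff_specializes hW hx₀W hx₁W).mp hle))
      ((primeIdealOf_le_iff_specializes hW hxW hx₀W).mpr hsp)
      (algebraMap_notMem_of_mem_basicOpen f hW e x hxW a hfx)
      (hmin_pts_to_primes x₀ x hx₀W hxW hmin)
      ((primeIdealOf_le_iff_specializes hW hxW hx₁W).mpr hsp₁)

end Groth.Agent.H57.RelAssSU
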