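import Mathlib
import Groth.Agent.H57.RelAssSU.ChartMain

/-!
# Scheme-level key theorem for S5872 / S5873 (helper57)
-/

set_option autoImplicit false
set_option linter.style.haveILetI false

universe u

open AlgebraicGeometry CategoryTheory Limits TopologicalSpace IsLocalRing
open Groth.Agent.H57.RelAssGen

namespace Groth.Agent.H57.RelAssSU

variable {X S : Scheme.{u}}

/-- Every specialization `x₁ ⤳ y` factors through a fibre-generic point of `closure {x₁}`. -/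
theorem exists_fibMin (f : X ⟶ S) (x₁ y : X) (hsp : x₁ ⤳ y) :
    ∃ w : X, x₁ ⤳ w ∧ w ⤳ y ∧ f w = f y ∧
      ∀ x' : X, x₁ ⤳ x' → x' ⤳ w → f x' = f w → x' = w := by
  obtain ⟨_, ⟨V, hV, rfl⟩, hyV, -⟩ := S.isBasis_affineOpens.exists_subset_of_mem_open
    (Set.mem_univ (f y)) isOpen_univ
  replace hV : IsAffineOpen V := hV
  obtain ⟨_, ⟨W, hW, rfl⟩, hyW, e⟩ := X.isBasis_affineOpens.exists_subset_of_mem_open
    (show y ∈ ((f ⁻¹ᵁ V : X.Opens) : Set X) from hyV) (f ⁻¹ᵁ V).isOpen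
  replace hW : IsAffineOpen W := hW
  replace e : W ≤ f ⁻¹ᵁ V := e
  letI : Algebra Γ(S, V) Γ(X, W) := (f.appLE V W e).hom.toAlgebra
  have hx₁W : x₁ ∈ W := hsp.mem_open W.isOpen hyW
  have hcomap : ∀ (x : X) (hxW : x ∈ W),
      (hW.primeIdealOf ⟨x, hxW⟩).asIdeal.comap (algebraMap Γ(S, V) Γ(X, W)) =
        (hV.primeIdealOf ⟨f x, e hxW⟩).asIdeal :=
    fun x hxW => comap_primeIdealOf_asIdeal f hV hW e x hxW
  set q₁ := (hW.primeIdealOf ⟨x₁, hx₁W⟩).asIdeal with hq₁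
  set qy := (hW.primeIdealOf ⟨y, hyW⟩).asIdeal with hqy
  set p := qy.comap (algebraMap Γ(S, V) Γ(X, W)) with hp
  set J : Ideal Γ(X, W) := q₁ ⊔ p.map (algebraMap Γ(S, V) Γ(X, W)) with hJ
  have hJle : J ≤ qy :=
    sup_le ((primeIdealOf_le_iff_specializes hW hyW hx₁W).mpr hsp) Ideal.map_comap_le
  haveI : qy.IsPrime := (hW.primeIdealOf ⟨y, hyW⟩).isPrime
  obtain ⟨q, hqmin, hqle⟩ := Ideal.exists_minimalPrimes_le hJle
  have hqprime : q.IsPrime := hqmin.1.1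
  have hJq : J ≤ q := hqmin.1.2
  obtain ⟨w, hwW, hwq⟩ := exists_point_of_prime hW ⟨q, hqprime⟩
  have hqe : q = (hW.primeIdealOf ⟨w, hwW⟩).asIdeal := by rw [hwq]
  have hqcomap : q.comap (algebraMap Γ(S, V) Γ(X, W)) = p := by
    apply le_antisymm
    · exact Ideal.comap_mono hqle
    · exact Ideal.map_le_iff_le_comap.mp (le_sup_right.trans hJq)
  have hfw : f w = f y := by
    apply primeIdealOf_injective hV (e hwW) (e hyW)
    apply PrimeSpectrum.ext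
    rw [← hcomap w hwW, ← hcomap y hyW, ← hqe]
    exact hqcomap
  refine ⟨w, ?_, ?_, hfw, ?_⟩
  · apply (primeIdealOf_le_iff_specializes hW hwW hx₁W).mp
    rw [← hqe]
    exact le_sup_left.trans hJq
  · apply (primeIdealOf_le_iff_specializes hW hyW hwW).mp
    rw [← hqe]
    exact hqle
  · intro x' hsp₁ hsp' hfx'
    have hx'W : x' ∈ W := hsp'.mem_open W.isOpen hwW
    have h1 : q₁ ≤ (hW.primeIdealOf ⟨x', hx'W⟩).asIdeal :=
      (primeIdealOf_le_iff_specializes hW hx'W hx₁W).mpr hsp₁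
    have h2 : (hW.primeIdealOf ⟨x', hx'W⟩).asIdeal ≤ q := by
      rw [hqe]
      exact (primeIdealOf_le_iff_specializes hW hwW hx'W).mpr hsp'
    have h3 : (hW.primeIdealOf ⟨x', hx'W⟩).asIdeal.comap (algebraMap Γ(S, V) Γ(X, W)) = p := by
      rw [← hqcomap, hqe, hcomap x' hx'W, hcomap w hwW]
      congr 2
      exact Subtype.ext hfx'
    have h4 : J ≤ (hW.primeIdealOf ⟨x', hx'W⟩).asIdeal :=
      sup_le h1 (Ideal.map_le_iff_le_comap.mpr h3.ge)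
    have h5 : q ≤ (hW.primeIdealOf ⟨x', hx'W⟩).asIdeal :=
      hqmin.2 ⟨(hW.primeIdealOf ⟨x', hx'W⟩).isPrime, h4⟩ h2
    apply primeIdealOf_injective hW hx'W hwW
    apply PrimeSpectrum.ext
    rw [← hqe]
    exact le_antisymm h2 h5

/-- The key theorem: uniform neighbourhood of the generic point. -/
theorem key (f : X ⟶ S) [IsIntegral S] [IsNoetherian S] [LocallyOfFiniteType f] [QuasiCompact f]
    (F : X.Modules) (hF : Coh.IsCoh F) :
    ∃ U : S.Opens, genericPoint S ∈ U ∧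
      (∀ x₀ x : X, x₀ ∈ MoreMor.relAss f F → f x₀ = genericPoint S → x₀ ⤳ x → f x ∈ U →
        (∀ x' : X, x₀ ⤳ x' → x' ⤳ x → f x' = f x → x' = x) → x ∈ MoreMor.relAss f F) ∧
      (∀ x : X, x ∈ MoreMor.relAss f F → f x ∈ U →
        ∃ x₀ : X, x₀ ∈ MoreMor.relAss f F ∧ f x₀ = genericPoint S ∧ x₀ ⤳ x ∧
          ∀ x' : X, x₀ ⤳ x' → x' ⤳ x → f x' = f x → x' = x) ∧
      (∀ x₀ x₁ x : X, x₀ ∈ MoreMor.relAss f F → f x₀ = genericPoint S →
        x₁ ∈ MoreMor.relAss f F → f x₁ = genericPoint S → ¬ x₁ ⤳ x₀ → x₀ ⤳ x → f x ∈ U →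
        (∀ x' : X, x₀ ⤳ x' → x' ⤳ x → f x' = f x → x' = x) → ¬ x₁ ⤳ x) := by
  classical
  obtain ⟨_, ⟨V₀, hV₀, rfl⟩, hηV₀, -⟩ := S.isBasis_affineOpens.exists_subset_of_mem_open
    (Set.mem_univ (genericPoint S)) isOpen_univ
  replace hV₀ : IsAffineOpen V₀ := hV₀
  haveI : Nonempty V₀ := ⟨⟨genericPoint S, hηV₀⟩⟩
  haveI : IsDomain Γ(S, V₀) := inferInstance
  haveI : IsNoetherianRing Γ(S, V₀) := IsLocallyNoetherian.component_noetherian ⟨V₀, hV₀⟩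
  have hη : (hV₀.primeIdealOf ⟨genericPoint S, hηV₀⟩).asIdeal = ⊥ := by
    obtain ⟨y, hyV₀, hy⟩ := exists_point_of_prime hV₀ ⟨(⊥ : Ideal Γ(S, V₀)), Ideal.isPrime_bot⟩
    have h1 : (hV₀.primeIdealOf ⟨genericPoint S, hηV₀⟩).asIdeal ≤
        (hV₀.primeIdealOf ⟨y, hyV₀⟩).asIdeal :=
      (primeIdealOf_le_iff_specializes hV₀ hyV₀ hηV₀).mpr (genericPoint_specializes y)
    rw [hy] at h1
    exact le_bot_iff.mp h1
  have hcpt : IsCompact ((f ⁻¹ᵁ V₀ : X.Opens) : Set X) := f.isCompact_preimage hV₀.isCompact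
  obtain ⟨s, hsfin, hs⟩ := isCompact_iff_finite_and_eq_biUnion_affineOpens.mp hcpt
  have hle : ∀ W ∈ s, (W : X.Opens) ≤ f ⁻¹ᵁ V₀ := by
    intro W hW
    rw [hs]
    exact le_iSup₂ (f := fun (i : X.affineOpens) (_ : i ∈ s) => (i : X.Opens)) W hW
  have key : ∀ t : Finset X.affineOpens, (∀ W ∈ t, (W : X.Opens) ≤ f ⁻¹ᵁ V₀) →
      ∃ a : Γ(S, V₀), a ≠ 0 ∧ ∀ W ∈ t,
        (∀ x₀ x : X, x ∈ (W : X.Opens) → x₀ ∈ MoreMor.relAss f F → f x₀ = genericPoint S →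
          x₀ ⤳ x → f x ∈ S.basicOpen a →
          (∀ x' : X, x₀ ⤳ x' → x' ⤳ x → f x' = f x → x' = x) → x ∈ MoreMor.relAss f F) ∧
        (∀ x : X, x ∈ (W : X.Opens) → x ∈ MoreMor.relAss f F → f x ∈ S.basicOpen a →
          ∃ x₀ : X, x₀ ∈ MoreMor.relAss f F ∧ f x₀ = genericPoint S ∧ x₀ ⤳ x ∧
            ∀ x' : X, x₀ ⤳ x' → x' ⤳ x → f x' = f x → x' = x) ∧
        (∀ x₀ x₁ x : X, x ∈ (W : X.Opens) → x₀ ∈ MoreMor.relAss f F → f x₀ = genericPoint S →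
          x₁ ∈ MoreMor.relAss f F → f x₁ = genericPoint S → ¬ x₁ ⤳ x₀ → x₀ ⤳ x →
          f x ∈ S.basicOpen a →
          (∀ x' : X, x₀ ⤳ x' → x' ⤳ x → f x' = f x → x' = x) → ¬ x₁ ⤳ x) := by
    intro t
    induction t using Finset.induction_on with
    | empty =>
      exact fun _ => ⟨1, one_ne_zero, fun W hW => absurd hW (Finset.notMem_empty W)⟩
    | insert W t hWt ih =>
      intro hall
      obtain ⟨a₁, ha₁, h₁⟩ := ih (fun W' hW' => hall W' (Finset.mem_insert_of_mem hW'))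
      have eW := hall W (Finset.mem_insert_self W t)
      obtain ⟨a₂, ha₂, h₂⟩ := chart_main f F hF hV₀ (genericPoint S) hηV₀ hη W.2 eW
      refine ⟨a₂ * a₁, mul_ne_zero ha₂ ha₁, fun W' hW' => ?_⟩
      rcases Finset.mem_insert.mp hW' with rfl | hW'
      · refine ⟨fun x₀ x hxW hx₀ hfx₀ hsp hfx hmin => ?_, fun x hxW hx hfx => ?_,
          fun x₀ x₁ x hxW hx₀ hfx₀ hx₁ hfx₁ hn hsp hfx hmin => ?_⟩
        · rw [Scheme.basicOpen_mul] at hfx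
          exact h₂.1 x₀ x hxW hx₀ hfx₀ hsp hfx.1 hmin
        · rw [Scheme.basicOpen_mul] at hfx
          exact h₂.2.1 x hxW hx hfx.1
        · rw [Scheme.basicOpen_mul] at hfx
          exact h₂.2.2 x₀ x₁ x hxW hx₀ hfx₀ hx₁ hfx₁ hn hsp hfx.1 hmin
      · obtain ⟨k1, k2, k3⟩ := h₁ W' hW'
        refine ⟨fun x₀ x hxW hx₀ hfx₀ hsp hfx hmin => ?_, fun x hxW hx hfx => ?_,
          fun x₀ x₁ x hxW hx₀ hfx₀ hx₁ hfx₁ hn hsp hfx hmin => ?_⟩
        · rw [Scheme.basicOpen_mul] at hfx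
          exact k1 x₀ x hxW hx₀ hfx₀ hsp hfx.2 hmin
        · rw [Scheme.basicOpen_mul] at hfx
          exact k2 x hxW hx hfx.2
        · rw [Scheme.basicOpen_mul] at hfx
          exact k3 x₀ x₁ x hxW hx₀ hfx₀ hx₁ hfx₁ hn hsp hfx.2 hmin
  obtain ⟨a, ha, hall⟩ := key hsfin.toFinset (fun W hW => hle W (hsfin.mem_toFinset.mp hW))
  have hchart : ∀ x : X, f x ∈ S.basicOpen a → ∃ W ∈ hsfin.toFinset, x ∈ (W : X.Opens) := by
    intro x hfx
    have hxV : x ∈ f ⁻¹ᵁ V₀ := S.basicOpen_le a hfx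
    rw [hs] at hxV
    simp only [TopologicalSpace.Opens.mem_iSup] at hxV
    obtain ⟨W, hW, hxW⟩ := hxV
    exact ⟨W, hsfin.mem_toFinset.mpr hW, hxW⟩
  refine ⟨S.basicOpen a, ?_, ?_, ?_, ?_⟩
  · apply (Groth.Agent.H8.mem_basicOpen_iff_notMem_primeIdealOf hV₀ (genericPoint S) hηV₀ a).mpr
    intro hmem
    have hmem' : a ∈ (hV₀.primeIdealOf ⟨genericPoint S, hηV₀⟩).asIdeal := hmem
    rw [hη] at hmem'
    exact ha ((Submodule.mem_bot _).mp hmem')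
  · intro x₀ x hx₀ hfx₀ hsp hfx hmin
    obtain ⟨W, hW, hxW⟩ := hchart x hfx
    exact (hall W hW).1 x₀ x hxW hx₀ hfx₀ hsp hfx hmin
  · intro x hx hfx
    obtain ⟨W, hW, hxW⟩ := hchart x hfx
    exact (hall W hW).2.1 x hxW hx hfx
  · intro x₀ x₁ x hx₀ hfx₀ hx₁ hfx₁ hn hsp hfx hmin
    obtain ⟨W, hW, hxW⟩ := hchart x hfx
    exact (hall W hW).2.2 x₀ x₁ x hxW hx₀ hfx₀ hx₁ hfx₁ hn hsp hfx hmin

end Groth.Agent.H57.RelAssSU
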