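import Mathlib
import Groth.Agent.H57.RelAssBC2
import Groth.Agent.H57.RelAssSU.Key
import Groth.Agent.H24.ModLimIso

/-!
# Bridge between `AssSch.Ass` of the fibres and the relative assassin (helper57, S5872 / S5873)
-/

set_option autoImplicit false
set_option linter.style.haveILetI false

universe u

open AlgebraicGeometry CategoryTheory Limits TopologicalSpace IsLocalRing

namespace Groth.Agent.H57.RelAssSU

variable {X S : Scheme.{u}}

/-- Associated points of the fibre are the points of the relative assassin in that fibre. -/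
theorem mem_ass_fiber_iff (f : X ⟶ S) [LocallyOfFiniteType f] (F : X.Modules)
    [F.IsQuasicoherent] (s : S) (z : ↥(f.fiber s)) :
    z ∈ AssSch.Ass ((Scheme.Modules.pullback (f.fiberι s)).obj F) ↔
      f.fiberι s z ∈ MoreMor.relAss f F := by
  haveI := Groth.Agent.H57.RelAssBC.isLocallyNoetherian_fiber f s
  rw [Groth.Agent.H57.RelAssBC.mem_relAss_iff_hasSocle f F s z]
  exact Groth.Agent.H7.SocleFlat.isAssociatedPrime_maximalIdeal_iff _ _

theorem fiberι_apply_fiber (f : X ⟶ S) (s : S) (z : ↥(f.fiber s)) : f (f.fiberι s z) = s := by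
  have h1 : f.fiberι s z ∈ Set.range (f.fiberι s) := Set.mem_range_self z
  rw [Scheme.Hom.range_fiberι] at h1
  exact h1

theorem exists_fiberι_eq (f : X ⟶ S) (s : S) (x : X) (hx : f x = s) :
    ∃ z : ↥(f.fiber s), f.fiberι s z = x := by
  have h1 : x ∈ Set.range (f.fiberι s) := by
    rw [Scheme.Hom.range_fiberι]; exact hx
  exact h1

theorem fiberι_specializes_iff (f : X ⟶ S) (s : S) (z z' : ↥(f.fiber s)) :
    f.fiberι s z' ⤳ f.fiberι s z ↔ z' ⤳ z :=
  (f.fiberι s).isEmbedding.isInducing.specializes_iff

theorem fiberι_injective (f : X ⟶ S) (s : S) : Function.Injective (f.fiberι s) :=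
  (f.fiberι s).isEmbedding.injective

end Groth.Agent.H57.RelAssSU
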